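import Groth.Agent.AlgSpCov.EtaleMono
import Groth.Agent.AlgSpCov.AffineFamily
import Groth.Agent.AlgSpCov.LargestOpen
import Groth.Agent.AlgSp.LocPFin
import Groth.Agent.S10262

/-!
# Base change along integral, universally injective, surjective morphisms
-/

set_option autoImplicit false
set_option backward.isDefEq.respectTransparency.types false

universe u

open CategoryTheory CategoryTheory.Limits AlgebraicGeometry TopologicalSpace

namespace Groth.Agent.AlgSpCov.HomeoEt

open _root_.AlgSp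
open Groth.Agent.AlgSp (isAlgSpace_pullback)

variable {S : Scheme.{u}}

/-- An integral, universally injective, surjective morphism. -/
structure IntUH {X Y : Sp S} (f : X ⟶ Y) : Prop where
  integral : RepWith @IsIntegralHom f
  inj : IsUnivInjectiveMor f
  surj : IsSurjectiveMor f

theorem IntUH.surjective {X Y Z P : Sp S} {f : X ⟶ Y} (hf : IntUH f) {g : Z ⟶ Y} {fst : P ⟶ X}
    {snd : P ⟶ Z} (sq : IsPullback fst snd f g) : Function.Surjective (Points.map snd) := fun z => by
  obtain ⟨x, hx⟩ := hf.surj (Points.map g z)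
  obtain ⟨p, -, hp⟩ := AlgSpB.exists_of_isPullback sq x z hx
  exact ⟨p, hp⟩

theorem IntUH.isClosedMap {X Y Z P : Sp S} {f : X ⟶ Y} (hf : IntUH f) {g : Z ⟶ Y} {fst : P ⟶ X}
    {snd : P ⟶ Z} (sq : IsPullback fst snd f g) : IsClosedMap (Points.map snd) :=
  Groth.Agent.AlgSp.isClosedMap_map_of_repWith (MorphismProperty.of_isPullback sq
    (Groth.Agent.AlgSp.repWith_mono (Q := @UniversallyClosed) (fun g (hg : IsIntegralHom g) => inferInstance) hf.integral))

theorem IntUH.injective {X Y Z P : Sp S} {f : X ⟶ Y} (hf : IntUH f) (hZ : IsAlgSpace Z) {g : Z ⟶ Y}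
    {fst : P ⟶ X} {snd : P ⟶ Z} (sq : IsPullback fst snd f g) : Function.Injective (Points.map snd) :=
  hf.inj hZ g fst snd sq

theorem IntUH.isHomeomorph {X Y Z P : Sp S} {f : X ⟶ Y} (hf : IntUH f) (hZ : IsAlgSpace Z) {g : Z ⟶ Y}
    {fst : P ⟶ X} {snd : P ⟶ Z} (sq : IsPullback fst snd f g) : IsHomeomorph (Points.map snd) :=
  isHomeomorph_iff_continuous_isClosedMap_bijective.2
    ⟨Points.continuous_map snd, hf.isClosedMap sq, hf.injective hZ sq, hf.surjective sq⟩

theorem isEtaleMor_of_baseChange {X Y X' Y' : Sp S} (hX : IsAlgSpace X) (hY : IsAlgSpace Y)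
    (hX' : IsAlgSpace X') (hY' : IsAlgSpace Y') {i : X' ⟶ X} {f' : X' ⟶ Y'} {f : X ⟶ Y} {j : Y' ⟶ Y}
    (sq : IsPullback i f' f j) (hf : IsEtaleMor f) : IsEtaleMor f' :=
  openClass_etale.baseChange hY' hY hX' hX j f i f' sq.flip hf

theorem isEtaleMor_cancel {X Y Z : Sp S} (hX : IsAlgSpace X) (hY : IsAlgSpace Y) (hZ : IsAlgSpace Z)
    (f : X ⟶ Y) (g : Y ⟶ Z) (hfg : IsEtaleMor (f ≫ g)) (hg : IsEtaleMor g) : IsEtaleMor f :=
  (isEtaleMor_iff_locP_etale hX hY).2
    (Groth.Agent.AlgSp.locP_of_comp etaleLocal_etale (P := @Etale) (Q := @Etale) (R := @Etale)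
      (fun _ _ _ e h h₁ h₂ => MorphismProperty.of_postcomp @Etale e h h₂ h₁) hZ f g
      (locP_etale_of_isEtaleMor hfg) (locP_etale_of_isEtaleMor hg))

theorem repWith_openImmersion_diagonal {X Y : Space S} (f : X ⟶ Y) (hf : IsEtaleMor f.hom) :
    RepWith @IsOpenImmersion (pullback.diagonal f.hom) :=
  (S10262.result f).1 fun _ _ a b h ha hb w =>
    have : Etale h.left := locP_etale_of_isEtaleMor hf a b h ha hb w
    ⟨inferInstance, inferInstance⟩

end Groth.Agent.AlgSpCov.HomeoEt
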