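import Groth.Agent.AlgSpCov.HomeoEt.Lift
import Groth.Agent.AlgSp.Quot
import Groth.Agent.AlgSp.DescentSepLqf
import Groth.Agent.AlgSpCov.SchemeSourceLocal

/-!
# Etale spaces descend along integral universally injective surjective morphisms
-/

set_option autoImplicit false
set_option backward.isDefEq.respectTransparency.types false

universe u

open CategoryTheory CategoryTheory.Limits AlgebraicGeometry TopologicalSpace

namespace Groth.Agent.AlgSpCov.HomeoEt

open _root_.AlgSp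

variable {S : Scheme.{u}}

/-- The base change of a scheme over `Y`, with its comparison map. -/
theorem exists_bc {X Y : Sp S} {f : X ⟶ Y} (hf : IntUH f) {T : Over S} (g : (yon S).obj T ⟶ Y) :
    ∃ (T' : Over S) (tf : (yon S).obj T' ⟶ X) (tq : T' ⟶ T),
      IsPullback tf ((yon S).map tq) f g ∧ Surjective tq.left ∧ IsHomeomorph tq.left := by
  obtain ⟨T', tq, tf, sq⟩ := hf.integral.1 g
  have h := (Points.schemeHomeo T).symm.isHomeomorph.comp
    ((hf.isHomeomorph (IsAlgSpace.yon_obj T) sq).comp (Points.schemeHomeo T').isHomeomorph)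
  have e : ⇑(Points.schemeHomeo T).symm ∘ Points.map ((yon S).map tq) ∘ ⇑(Points.schemeHomeo T') = ⇑tq.left := by
    funext x
    simp only [Function.comp_apply]
    rw [Homeomorph.symm_apply_eq]
    exact Points.map_yon_map_apply tq x
  rw [e] at h
  exact ⟨T', tf, tq, sq, ⟨h.bijective.surjective⟩, h⟩

/-- An etale relation upstairs descends to an etale relation downstairs. -/
theorem exists_rel {X Y : Space S} {f : X ⟶ Y} (hf : IntUH f.hom) {Y₀ X₀ R : Over S}
    {y₀ : (yon S).obj Y₀ ⟶ Y.obj} {xf : (yon S).obj X₀ ⟶ X.obj} {xq : X₀ ⟶ Y₀}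
    (sq₀ : IsPullback xf ((yon S).map xq) f.hom y₀) (hy₀ : RepWith @Etale y₀)
    {W : Sp S} {e : (yon S).obj X₀ ⟶ W} {rt rs : R ⟶ X₀}
    (hR : IsPullback ((yon S).map rt) ((yon S).map rs) e e) {b : W ⟶ X.obj} (heb : e ≫ b = xf)
    (hrt : Etale rt.left) :
    ∃ (R' : Over S) (t' s' : R' ⟶ Y₀) (ρ' : R ⟶ R'), IsEtaleEqvRel s' t' ∧
      (yon S).map t' ≫ y₀ = (yon S).map s' ≫ y₀ ∧ ρ' ≫ t' = rt ≫ xq ∧ ρ' ≫ s' = rs ≫ xq ∧
      IsPullback ((yon S).map rt ≫ xf) ((yon S).map ρ') f.hom ((yon S).map t' ≫ y₀) := by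
  obtain ⟨Y₂, p, p', sqY⟩ := AlgSpB.exists_pullback_yon hy₀.1 y₀
  have hp : Etale p.left := hy₀.2 _ _ p sqY.flip
  have hp' : Etale p'.left := hy₀.2 _ _ p' sqY
  have sqX := IsPullback.of_hasPullback xq p
  let pr := pullback.fst xq p
  let q₂ := pullback.snd xq p
  have hpr : Etale pr.left := MorphismProperty.of_isPullback (isPullback_over_left sqX).flip hp
  have big : IsPullback ((yon S).map pr ≫ xf) ((yon S).map q₂) f.hom ((yon S).map p ≫ y₀) :=
    (sqX.map (yon S)).paste_horiz sq₀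
  have hh : IsHomeomorph q₂.left := by
    obtain ⟨T', tf, tq, sqT, -, h⟩ := exists_bc hf ((yon S).map p ≫ y₀)
    let E := sqT.isoIsPullback _ _ big
    obtain ⟨φ, hφ⟩ := (yon S).map_surjective E.inv
    have : IsIso ((yon S).map φ) := by rw [hφ]; infer_instance
    have : IsIso φ := isIso_of_reflects_iso φ (yon S)
    have hφq : φ ≫ tq = q₂ := (yon S).map_injective (by
      rw [Functor.map_comp, hφ, IsPullback.isoIsPullback_inv_snd])
    rw [← hφq, Over.comp_left, Scheme.Hom.comp_base, TopCat.coe_comp]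
    exact h.comp (Scheme.homeoOfIso ((Over.forget S).mapIso (asIso φ))).isHomeomorph
  have hrtb : ((yon S).map rt ≫ (yon S).map xq) ≫ y₀ = ((yon S).map rs ≫ (yon S).map xq) ≫ y₀ := by
    simp only [Category.assoc, ← sq₀.w, ← heb]
    rw [reassoc_of% hR.w]
  obtain ⟨ρ₂, hρ₂⟩ := (yon S).map_surjective (sqY.lift _ _ hrtb)
  have hρp : ρ₂ ≫ p = rt ≫ xq := (yon S).map_injective (by
    rw [Functor.map_comp, hρ₂, sqY.lift_fst, Functor.map_comp])
  have hρp' : ρ₂ ≫ p' = rs ≫ xq := (yon S).map_injective (by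
    rw [Functor.map_comp, hρ₂, sqY.lift_snd, Functor.map_comp])
  obtain ⟨ρ, hρpr, hρq⟩ := sqX.exists_lift rt ρ₂ hρp.symm
  have hrtxf : (yon S).map rt ≫ xf = (yon S).map rs ≫ xf := by rw [← heb, reassoc_of% hR.w]
  have : Mono ρ := ⟨fun {Z} α β h => by
    have h1 : α ≫ rt = β ≫ rt := by rw [← hρpr, reassoc_of% h]
    have h2 : α ≫ rs ≫ xq = β ≫ rs ≫ xq := by rw [← hρp', ← hρq]; simp only [Category.assoc, reassoc_of% h]
    refine (yon S).map_injective (hR.hom_ext ?_ (sq₀.hom_ext ?_ ?_))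
    · rw [← Functor.map_comp, ← Functor.map_comp, h1]
    · simp only [Category.assoc, ← hrtxf]
      rw [← Functor.map_comp_assoc, ← Functor.map_comp_assoc, h1]
    · simp only [Category.assoc, ← Functor.map_comp, h2]⟩
  have hρe : Etale ρ.left := by
    have : Etale (ρ.left ≫ pr.left) := by rw [← Over.comp_left, hρpr]; exact hrt
    exact Etale.of_comp ρ.left pr.left
  have hρo : IsOpenImmersion ρ.left := IsOpenImmersion.of_flat_of_mono ρ.left
  have hρq' : ρ ≫ q₂ = ρ₂ := hρq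
  let O' : Y₂.left.Opens := ⟨q₂.left '' Set.range ρ.left, hh.isOpenMap _ ρ.left.isOpenEmbedding.isOpen_range⟩
  let R' : Over S := Over.mk (O'.ι ≫ Y₂.hom)
  let ι' : R' ⟶ Y₂ := Over.homMk O'.ι rfl
  have hι'm : Mono ι' := (Over.forget S).mono_of_mono_map (inferInstanceAs (Mono O'.ι))
  have hfac : ∀ {T : Over S} (z : T ⟶ Y₂), (∀ t : T.left, z.left t ∈ O') → ∃ l : T ⟶ R', l ≫ ι' = z :=
    fun {T} z hz => by
      have h : Set.range z.left ⊆ Set.range O'.ι := by
        rintro _ ⟨t, rfl⟩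
        rw [Scheme.Opens.range_ι]
        exact hz t
      exact ⟨Over.homMk (IsOpenImmersion.lift O'.ι z.left h) (by
          change _ ≫ O'.ι ≫ Y₂.hom = _
          rw [IsOpenImmersion.lift_fac_assoc, Over.w]),
        Over.OverMorphism.ext (IsOpenImmersion.lift_fac _ _ _)⟩
  obtain ⟨ρ', hρ'⟩ := hfac (ρ ≫ q₂) fun r => ⟨ρ.left r, ⟨r, rfl⟩, rfl⟩
  have hρ't : ρ' ≫ ι' ≫ p = rt ≫ xq := by rw [reassoc_of% hρ', reassoc_of% hρq', hρp]
  have hρ's : ρ' ≫ ι' ≫ p' = rs ≫ xq := by rw [reassoc_of% hρ', reassoc_of% hρq', hρp']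
  have sqR₀ : IsPullback ρ ρ' q₂ ι' := by
    have hex : ∀ c : PullbackCone q₂ ι', ∃ m : c.pt ⟶ R, m ≫ ρ = c.fst := fun c => by
      have h : Set.range c.fst.left ⊆ Set.range ρ.left := by
        rintro _ ⟨t, rfl⟩
        obtain ⟨x, hx, he⟩ : q₂.left (c.fst.left t) ∈ O' := by
          have := congrArg (fun m => m.left t) c.condition
          rw [show q₂.left (c.fst.left t) = (c.fst ≫ q₂).left t from rfl, this]
          exact (c.snd.left t : ↥O').2
        exact (hh.bijective.injective he) ▸ hx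
      exact ⟨Over.homMk (IsOpenImmersion.lift ρ.left c.fst.left h) (by
          rw [← Over.w ρ, IsOpenImmersion.lift_fac_assoc, Over.w]),
        Over.OverMorphism.ext (IsOpenImmersion.lift_fac _ _ _)⟩
    choose m hm using hex
    refine IsPullback.of_isLimit' ⟨hρ'.symm⟩ (PullbackCone.IsLimit.mk _ m hm (fun c => ?_)
      fun c m' h1 _ => (cancel_mono ρ).1 (h1.trans (hm c).symm))
    rw [← cancel_mono ι', Category.assoc, hρ', reassoc_of% (hm c), c.condition]
  have sqR : IsPullback ((yon S).map rt ≫ xf) ((yon S).map ρ') f.hom ((yon S).map (ι' ≫ p) ≫ y₀) := by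
    have h := (sqR₀.map (yon S)).paste_horiz big
    rwa [← Functor.map_comp_assoc, hρpr, ← Functor.map_comp_assoc] at h
  refine ⟨R', ι' ≫ p, ι' ≫ p', ρ', ?_, ?_, hρ't, hρ's, sqR⟩
  swap
  · simp only [Functor.map_comp, Category.assoc, sqY.w]
  have hinj : ∀ (T : Over S) (z z' : T ⟶ Y₂), z ≫ p = z' ≫ p → z ≫ p' = z' ≫ p' → z = z' := fun T z z' h h' =>
    (yon S).map_injective (sqY.hom_ext (by rw [← Functor.map_comp, ← Functor.map_comp, h])
      (by rw [← Functor.map_comp, ← Functor.map_comp, h']))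
  have : Etale (ι' ≫ p).left := by
    rw [Over.comp_left]
    have : Etale ι'.left := inferInstanceAs (Etale O'.ι)
    infer_instance
  have : Etale (ι' ≫ p').left := by
    rw [Over.comp_left]
    have : Etale ι'.left := inferInstanceAs (Etale O'.ι)
    infer_instance
  -- reflexivity, symmetry and transitivity, universally
  obtain ⟨δ, hδ₁, hδ₂⟩ : ∃ δ : Y₀ ⟶ R', δ ≫ ι' ≫ p = 𝟙 _ ∧ δ ≫ ι' ≫ p' = 𝟙 _ := by
    obtain ⟨Δ, hΔ⟩ := (yon S).map_surjective (sqY.lift (𝟙 _) (𝟙 _) rfl)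
    have h1 : Δ ≫ p = 𝟙 _ := (yon S).map_injective (by rw [Functor.map_comp, hΔ, sqY.lift_fst, CategoryTheory.Functor.map_id])
    have h2 : Δ ≫ p' = 𝟙 _ := (yon S).map_injective (by rw [Functor.map_comp, hΔ, sqY.lift_snd, CategoryTheory.Functor.map_id])
    obtain ⟨d, hd⟩ := (yon S).map_surjective (hR.lift (𝟙 _) (𝟙 _) rfl)
    have hd1 : d ≫ rt = 𝟙 _ := (yon S).map_injective (by rw [Functor.map_comp, hd, hR.lift_fst, CategoryTheory.Functor.map_id])
    have hd2 : d ≫ rs = 𝟙 _ := (yon S).map_injective (by rw [Functor.map_comp, hd, hR.lift_snd, CategoryTheory.Functor.map_id])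
    have key : d ≫ ρ ≫ q₂ = xq ≫ Δ := hinj _ _ _
      (by simp only [Category.assoc, h1, reassoc_of% hρq', hρp, reassoc_of% hd1, Category.comp_id])
      (by simp only [Category.assoc, h2, reassoc_of% hρq', hρp', reassoc_of% hd2, Category.comp_id])
    obtain ⟨δ, hδ⟩ := hfac Δ fun y => by
      obtain ⟨T', tf, tq, sqT, hts, -⟩ := exists_bc hf y₀
      obtain ⟨E, hE⟩ := (yon S).map_surjective (sqT.isoIsPullback _ _ sq₀).hom
      have hExq : E ≫ xq = tq := (yon S).map_injective (by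
        rw [Functor.map_comp, hE, IsPullback.isoIsPullback_hom_snd])
      obtain ⟨x, hx⟩ := hts.surj y
      refine ⟨ρ.left (d.left (E.left x)), ⟨_, rfl⟩, ?_⟩
      have := congrArg (fun m => m.left (E.left x)) key
      simp only [Over.comp_left, Scheme.Hom.comp_apply] at this
      rw [this, ← Scheme.Hom.comp_apply E.left, ← Over.comp_left, hExq, hx]
    exact ⟨δ, by rw [reassoc_of% hδ, h1], by rw [reassoc_of% hδ, h2]⟩
  obtain ⟨σ, hσ₁, hσ₂⟩ : ∃ σ : R' ⟶ R', σ ≫ ι' ≫ p = ι' ≫ p' ∧ σ ≫ ι' ≫ p' = ι' ≫ p := by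
    obtain ⟨w, hw⟩ := (yon S).map_surjective (sqY.lift _ _ sqY.w.symm)
    have h1 : w ≫ p = p' := (yon S).map_injective (by rw [Functor.map_comp, hw, sqY.lift_fst])
    have h2 : w ≫ p' = p := (yon S).map_injective (by rw [Functor.map_comp, hw, sqY.lift_snd])
    obtain ⟨σR, hσR⟩ := (yon S).map_surjective (hR.lift _ _ hR.w.symm)
    have hs1 : σR ≫ rt = rs := (yon S).map_injective (by rw [Functor.map_comp, hσR, hR.lift_fst])
    have hs2 : σR ≫ rs = rt := (yon S).map_injective (by rw [Functor.map_comp, hσR, hR.lift_snd])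
    have key : σR ≫ ρ ≫ q₂ = (ρ ≫ q₂) ≫ w := hinj _ _ _
      (by simp only [Category.assoc, h1, reassoc_of% hρq', hρp, hρp', reassoc_of% hs1])
      (by simp only [Category.assoc, h2, reassoc_of% hρq', hρp, hρp', reassoc_of% hs2])
    obtain ⟨σ, hσ⟩ := hfac (ι' ≫ w) fun r => by
      obtain ⟨_, ⟨x, rfl⟩, he⟩ := (r : ↥O').2
      refine ⟨ρ.left (σR.left x), ⟨_, rfl⟩, ?_⟩
      have := congrArg (fun m => m.left x) key
      simp only [Over.comp_left, Scheme.Hom.comp_apply] at this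
      rw [this, he]
      rfl
    exact ⟨σ, by rw [reassoc_of% hσ, h1], by rw [reassoc_of% hσ, h2]⟩
  refine { injective := fun T r r' h h' => ?_, equivalence := fun T => ⟨fun a => ?_, ?_, ?_⟩, etale_left := ‹_›, etale_right := ‹_› }
  · exact (cancel_mono ι').1 (hinj _ _ _ (by simpa using h) (by simpa using h'))
  · exact ⟨a ≫ δ, by simp only [Category.assoc, hδ₁, Category.comp_id],
      by simp only [Category.assoc, hδ₂, Category.comp_id]⟩
  · rintro a a' ⟨r, h, h'⟩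
    exact ⟨r ≫ σ, by simp only [Category.assoc, hσ₁, h'], by simp only [Category.assoc, hσ₂, h]⟩
  · rintro a₁ a₂ a₃ ⟨α, hα₁, hα₂⟩ ⟨β, hβ₁, hβ₂⟩
    have hab : α ≫ ι' ≫ p' = β ≫ ι' ≫ p := hα₂.trans hβ₁.symm
    have hy' : ∀ {T : Over S} (r : T ⟶ R'),
        (yon S).map (r ≫ ι' ≫ p) ≫ y₀ = (yon S).map (r ≫ ι' ≫ p') ≫ y₀ := fun r => by
      simp only [Functor.map_comp, Category.assoc, sqY.w]
    have hy13 : (yon S).map (α ≫ ι' ≫ p) ≫ y₀ = (yon S).map (β ≫ ι' ≫ p') ≫ y₀ := by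
      rw [hy', hab, hy']
    obtain ⟨τ, hτ⟩ := (yon S).map_surjective (sqY.lift _ _ hy13)
    have hτ1 : τ ≫ p = α ≫ ι' ≫ p := (yon S).map_injective (by rw [Functor.map_comp, hτ, sqY.lift_fst])
    have hτ2 : τ ≫ p' = β ≫ ι' ≫ p' := (yon S).map_injective (by rw [Functor.map_comp, hτ, sqY.lift_snd])
    obtain ⟨Zx, zx, zq, sqZ, hzs, -⟩ := exists_bc hf ((yon S).map (α ≫ ι' ≫ p) ≫ y₀)
    obtain ⟨A, hA₁, hA₂⟩ := sqR.exists_lift zx ((yon S).map (zq ≫ α))
      (by rw [sqZ.w]; simp only [Functor.map_comp, Category.assoc])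
    obtain ⟨B, hB₁, hB₂⟩ := sqR.exists_lift zx ((yon S).map (zq ≫ β))
      (by rw [sqZ.w, hy', hab]; simp only [Functor.map_comp, Category.assoc])
    obtain ⟨A, rfl⟩ := (yon S).map_surjective A
    obtain ⟨B, rfl⟩ := (yon S).map_surjective B
    have eA : A ≫ ρ' = zq ≫ α := (yon S).map_injective (by rw [Functor.map_comp, hA₂])
    have eB : B ≫ ρ' = zq ≫ β := (yon S).map_injective (by rw [Functor.map_comp, hB₂])
    have hAB : A ≫ rs = B ≫ rt := by
      refine (yon S).map_injective (sq₀.hom_ext ?_ ?_)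
      · simp only [Functor.map_comp, Category.assoc, ← hrtxf]
        rw [hA₁, hB₁]
      · simp only [← Functor.map_comp]
        congr 1
        simp only [Category.assoc, ← hρ's, ← hρ't, reassoc_of% eA, reassoc_of% eB, hab]
    obtain ⟨C, hC₁, hC₂⟩ := hR.exists_lift ((yon S).map (A ≫ rt)) ((yon S).map (B ≫ rs)) (by
      rw [Functor.map_comp_assoc, hR.w, ← Functor.map_comp_assoc, hAB, Functor.map_comp_assoc, hR.w,
        ← Functor.map_comp_assoc])
    obtain ⟨C, rfl⟩ := (yon S).map_surjective C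
    have eC1 : C ≫ rt = A ≫ rt := (yon S).map_injective (by rw [Functor.map_comp, hC₁])
    have eC2 : C ≫ rs = B ≫ rs := (yon S).map_injective (by rw [Functor.map_comp, hC₂])
    have key : C ≫ ρ ≫ q₂ = zq ≫ τ := hinj _ _ _
      (by simp only [Category.assoc, hτ1, hρp, reassoc_of% hρq']; rw [reassoc_of% eC1, ← hρ't, reassoc_of% eA])
      (by simp only [Category.assoc, hτ2, hρp', reassoc_of% hρq']; rw [reassoc_of% eC2, ← hρ's, reassoc_of% eB])
    obtain ⟨r, hr⟩ := hfac τ fun t => by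
      obtain ⟨x, rfl⟩ := hzs.surj t
      refine ⟨ρ.left (C.left x), ⟨_, rfl⟩, ?_⟩
      have := congrArg (fun m => m.left x) key
      simp only [Over.comp_left, Scheme.Hom.comp_apply] at this
      exact this
    exact ⟨r, by rw [reassoc_of% hr, hτ1, hα₁], by rw [reassoc_of% hr, hτ2, hβ₂]⟩

/-- Every etale space over `X` is the base change of an etale space over `Y`. -/
theorem exists_descend {X Y : Space S} {f : X ⟶ Y} (hf : IntUH f.hom) (V : Space S) (b : V ⟶ X)
    (hb : IsEtaleMor b.hom) :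
    ∃ (V' : Space S) (a : V' ⟶ Y) (c : V ⟶ V'), IsEtaleMor a.hom ∧ IsPullback b.hom c.hom f.hom a.hom := by
  obtain ⟨Y₀, X₀, y₀, xf, xq, e, hy₀, sq₀, heb, he, hes⟩ := exists_lifted_atlas hf b hb
  obtain ⟨R, rt, rs, hR⟩ := AlgSpB.exists_pullback_yon he.1 e
  obtain ⟨R', t', s', ρ', hrel, hy', hρt, hρs, sqR⟩ := exists_rel hf sq₀ hy₀ hR heb (he.2 _ _ rt hR.flip)
  have := Groth.Agent.AlgSp.isLocallySurjective_yπ s' t'
  have hk := Groth.Agent.AlgSp.isPullback_yπ s' t' hrel.toIsEqvRel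
  obtain ⟨hQ, hπe, hπs⟩ := Groth.Agent.AlgSp.isAlgSpace_of_kernelPair (Groth.Agent.AlgSp.yπ s' t') hk hrel.etale_left
  let π := Groth.Agent.AlgSp.yπ s' t'
  let V' : Space S := ⟨QuotSh.quot Scheme.fppfPrecoverage s' t', hQ⟩
  obtain ⟨colπ⟩ := Groth.Agent.AlgSp.isColimit_of_isPullback π hk
  obtain ⟨a, ha⟩ : ∃ a : V'.obj ⟶ Y.obj, π ≫ a = y₀ :=
    ⟨Cofork.IsColimit.desc colπ y₀ hy', Cofork.IsColimit.π_desc' colπ _ _⟩
  have hπe' : IsEtaleMor π := (isEtaleMor_iff_locP_etale (IsAlgSpace.yon_obj Y₀) hQ).2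
    (locP_of_repWith etaleLocal_etale hπe)
  have hae : IsEtaleMor a := by
    have := isLocalAtSource_etale.{u}
    refine (isEtaleMor_iff_locP_etale hQ Y.property).2
      (locP_of_source (T := @Etale) hQ (Xi := fun _ : PUnit.{u + 1} => (yon S).obj Y₀) (g := fun _ => π)
        (fun _ => IsAlgSpace.yon_obj Y₀) (fun _ _ _ W c hc hs h => of_family_of_isLocalAtSource W c hc hs h)
        (fun _ => locP_etale_of_isEtaleMor hπe') (fun x => ⟨⟨⟩, ?_⟩) fun _ => ?_)
    · obtain ⟨y, hy⟩ := AlgSpB.surjective_ofPt hπs x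
      exact ⟨_, (Points.ofPt_eq_map_ofScheme π y).symm.trans hy⟩
    · rw [ha]
      exact locP_of_repWith etaleLocal_etale hy₀
  have := Groth.Agent.AlgSp.isLocallySurjective_of_etale_surjective e he hes
  have : Epi e := Sheaf.epi_of_isLocallySurjective e
  obtain ⟨cole⟩ := Groth.Agent.AlgSp.isColimit_of_isPullback e hR
  obtain ⟨c, hc⟩ : ∃ c : V.obj ⟶ V'.obj, e ≫ c = (yon S).map xq ≫ π :=
    ⟨Cofork.IsColimit.desc cole ((yon S).map xq ≫ π) (by
      rw [← Functor.map_comp_assoc, ← Functor.map_comp_assoc, ← hρt, ← hρs, Functor.map_comp_assoc,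
        Functor.map_comp_assoc, hk.w]), Cofork.IsColimit.π_desc' cole _ _⟩
  refine ⟨V', ObjectProperty.homMk a, ObjectProperty.homMk c, hae, ?_⟩
  change IsPullback b.hom c f.hom a
  have hw : b.hom ≫ f.hom = c ≫ a := by
    rw [← cancel_epi e, reassoc_of% heb, reassoc_of% hc, ha, sq₀.w]
  have sP := IsPullback.of_hasPullback f.hom a
  let θ := sP.lift b.hom c hw
  let g := sP.lift xf ((yon S).map xq ≫ π) (by rw [sq₀.w, Category.assoc, ha])
  have hg : IsPullback g ((yon S).map xq) (pullback.snd f.hom a) π :=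
    IsPullback.of_right (by rw [sP.lift_fst, ha]; exact sq₀) (sP.lift_snd _ _ _) sP
  have hge : RepWith @Etale g := repWith_bc hg.flip hπe
  have hgs : RepWith @Surjective g := repWith_bc hg.flip hπs
  have := Groth.Agent.AlgSp.isLocallySurjective_of_etale_surjective g hge hgs
  have : Epi g := Sheaf.epi_of_isLocallySurjective g
  have heθ : e ≫ θ = g := sP.hom_ext
    (by rw [Category.assoc, sP.lift_fst, heb, sP.lift_fst])
    (by rw [Category.assoc, sP.lift_snd, hc, sP.lift_snd])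
  have hker : IsPullback ((yon S).map rt) ((yon S).map rs) g g := by
    have w : (yon S).map rt ≫ g = (yon S).map rs ≫ g := by rw [← heθ, reassoc_of% hR.w]
    have hex : ∀ k : PullbackCone g g, ∃ δ, δ ≫ (yon S).map rt = k.fst ∧ δ ≫ (yon S).map rs = k.snd := by
      intro k
      have h1 : k.fst ≫ xf = k.snd ≫ xf := by
        rw [← sP.lift_fst xf ((yon S).map xq ≫ π) (by rw [sq₀.w, Category.assoc, ha])]
        exact (k.condition_assoc _)
      have h2 : (k.fst ≫ (yon S).map xq) ≫ π = (k.snd ≫ (yon S).map xq) ≫ π := by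
        rw [Category.assoc, Category.assoc, ← sP.lift_snd xf ((yon S).map xq ≫ π) (by rw [sq₀.w, Category.assoc, ha])]
        exact (k.condition_assoc _)
      obtain ⟨γ, hγ₁, hγ₂⟩ := hk.exists_lift _ _ h2
      obtain ⟨δ, hδ₁, hδ₂⟩ := sqR.exists_lift (k.fst ≫ xf) γ (by
        rw [Category.assoc, sq₀.w, reassoc_of% hγ₁])
      refine ⟨δ, sq₀.hom_ext (by rw [Category.assoc, hδ₁]) ?_, sq₀.hom_ext ?_ ?_⟩
      · rw [Category.assoc, ← Functor.map_comp, ← hρt, Functor.map_comp, reassoc_of% hδ₂, hγ₁]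
      · rw [Category.assoc, ← heb, ← reassoc_of% hR.w, heb, hδ₁, h1]
      · rw [Category.assoc, ← Functor.map_comp, ← hρs, Functor.map_comp, reassoc_of% hδ₂, hγ₂]
    choose δ hδ₁ hδ₂ using hex
    exact IsPullback.of_isLimit' ⟨w⟩ (PullbackCone.IsLimit.mk w δ hδ₁ hδ₂ fun k m h1 h2 =>
      hR.hom_ext (h1.trans (hδ₁ k).symm) (h2.trans (hδ₂ k).symm))
  obtain ⟨colg⟩ := Groth.Agent.AlgSp.isColimit_of_isPullback g hker
  obtain ⟨ψ, hψ⟩ : ∃ ψ : pullback f.hom a ⟶ V.obj, g ≫ ψ = e :=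
    ⟨Cofork.IsColimit.desc colg e hR.w, Cofork.IsColimit.π_desc' colg _ _⟩
  let E : V.obj ≅ pullback f.hom a :=
    { hom := θ
      inv := ψ
      hom_inv_id := by rw [← cancel_epi e, reassoc_of% heθ, hψ, Category.comp_id]
      inv_hom_id := by rw [← cancel_epi g, reassoc_of% hψ, heθ, Category.comp_id] }
  exact sP.of_iso E.symm (Iso.refl _) (Iso.refl _) (Iso.refl _)
    (by rw [Iso.refl_hom, Category.comp_id, Iso.symm_hom]
        exact (Iso.eq_inv_comp E).2 (sP.lift_fst _ _ _))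
    (by rw [Iso.refl_hom, Category.comp_id, Iso.symm_hom]
        exact (Iso.eq_inv_comp E).2 (sP.lift_snd _ _ _))
    (by simp) (by simp)

end Groth.Agent.AlgSpCov.HomeoEt
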