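import Groth.Agent.AlgSpCov.HomeoEt.Hom
import Groth.Agent.AlgSpCov.HomeoEt.Descend
import Groth.Agent.AlgSpB.Bootstrap
import Groth.Prelude.Def_AlgSpOX2

/-!
# Small etale sites under integral universally injective surjective base change

* `bc_isEquivalence`: base change is an equivalence once descended etale spaces of schemes are schemes.
-/

set_option autoImplicit false
set_option backward.isDefEq.respectTransparency false

universe u

open CategoryTheory CategoryTheory.Limits AlgebraicGeometry TopologicalSpace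

namespace Groth.Agent.AlgSpCov.HomeoEt

open Groth.Agent
open _root_.AlgSp

variable {S : Scheme.{u}} {X Y : Space S} {f : X ⟶ Y}

theorem bc_faithful (hf : IntUH f.hom) (hr : Representable f.hom) : (EtOver.bc hr).Faithful where
  map_injective {E E'} g g' h := by
    refine EtOver.hom_ext _ _ ((yon S).map_injective ?_)
    let V₁' : Space S := ⟨(yon S).obj E.obj.left, IsAlgSpace.yon_obj _⟩
    let V₂' : Space S := ⟨(yon S).obj E'.obj.left, IsAlgSpace.yon_obj _⟩
    let V₁ : Space S := ⟨(yon S).obj (EtOver.bcObj hr E).obj.left, IsAlgSpace.yon_obj _⟩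
    let φ : V₁' ⟶ V₂' := ObjectProperty.homMk ((yon S).map g.hom.left)
    let φ' : V₁' ⟶ V₂' := ObjectProperty.homMk ((yon S).map g'.hom.left)
    let c₁ : V₁ ⟶ V₁' := ObjectProperty.homMk ((yon S).map (EtOver.bcπ hr E))
    have hb : EtOver.bcMap hr g = EtOver.bcMap hr g' := h
    have h1 := congrArg (fun m : EtOver.bcObj hr E ⟶ EtOver.bcObj hr E' => m.hom.left ≫ hr.snd E'.obj.hom) hb
    simp only [EtOver.bcMap_snd] at h1
    have e := hom_unique hf (a₂ := (ObjectProperty.homMk E'.obj.hom : V₂' ⟶ Y))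
      (a₁ := (ObjectProperty.homMk E.obj.hom : V₁' ⟶ Y))
      (b₁ := (ObjectProperty.homMk (EtOver.bcObj hr E).obj.hom : V₁ ⟶ X)) (c₁ := c₁)
      (_root_.AlgSp.isEtaleMor_of_repWith _ E'.property) (EtOver.isPullback_bcObj hr E) (φ := φ) (φ' := φ')
      (ObjectProperty.hom_ext _ (by
        show (yon S).map g.hom.left ≫ E'.obj.hom = (yon S).map g'.hom.left ≫ E'.obj.hom
        rw [EtOver.w g, EtOver.w g']))
      (ObjectProperty.hom_ext _ (by
        show (yon S).map (hr.snd E.obj.hom) ≫ (yon S).map g.hom.left =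
          (yon S).map (hr.snd E.obj.hom) ≫ (yon S).map g'.hom.left
        rw [← Functor.map_comp, ← Functor.map_comp, h1]))
    exact congrArg (fun m => m.hom) e

theorem bc_full (hf : IntUH f.hom) (hr : Representable f.hom) : (EtOver.bc hr).Full where
  map_surjective {E E'} m := by
    let V₁' : Space S := ⟨(yon S).obj E.obj.left, IsAlgSpace.yon_obj _⟩
    let V₂' : Space S := ⟨(yon S).obj E'.obj.left, IsAlgSpace.yon_obj _⟩
    let V₁ : Space S := ⟨(yon S).obj (EtOver.bcObj hr E).obj.left, IsAlgSpace.yon_obj _⟩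
    let V₂ : Space S := ⟨(yon S).obj (EtOver.bcObj hr E').obj.left, IsAlgSpace.yon_obj _⟩
    obtain ⟨φ', hφ1, hφ2⟩ := hom_exists hf (a₁ := (ObjectProperty.homMk E.obj.hom : V₁' ⟶ Y))
      (a₂ := (ObjectProperty.homMk E'.obj.hom : V₂' ⟶ Y))
      (b₁ := (ObjectProperty.homMk (EtOver.bcObj hr E).obj.hom : V₁ ⟶ X))
      (b₂ := (ObjectProperty.homMk (EtOver.bcObj hr E').obj.hom : V₂ ⟶ X))
      (c₁ := (ObjectProperty.homMk ((yon S).map (EtOver.bcπ hr E)) : V₁ ⟶ V₁'))
      (c₂ := (ObjectProperty.homMk ((yon S).map (EtOver.bcπ hr E')) : V₂ ⟶ V₂'))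
      (_root_.AlgSp.isEtaleMor_of_repWith _ E.property) (_root_.AlgSp.isEtaleMor_of_repWith _ E'.property)
      (EtOver.isPullback_bcObj hr E) (EtOver.isPullback_bcObj hr E')
      (ObjectProperty.homMk ((yon S).map m.hom.left)) (ObjectProperty.hom_ext _ (EtOver.w m))
    obtain ⟨g, hg⟩ := (yon S).map_surjective φ'.hom
    refine ⟨EtOver.homMk g (by rw [hg]; exact congrArg (fun q => q.hom) hφ1), ?_⟩
    refine EtOver.hom_ext _ _ (hr.hom_ext ?_ ?_)
    · rw [EtOver.bc_map, EtOver.map_bcMap_fst]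
      exact (EtOver.w m).symm
    · rw [EtOver.bc_map, EtOver.bcMap_snd]
      apply (yon S).map_injective
      show (yon S).map (hr.snd E.obj.hom ≫ g) = (yon S).map (m.hom.left ≫ hr.snd E'.obj.hom)
      rw [Functor.map_comp, Functor.map_comp, hg]
      exact congrArg (fun q => q.hom) hφ2

theorem bc_essSurj (hf : IntUH f.hom) (hr : Representable f.hom)
    (hsch : ∀ (T : Over S) (V' : Space S) (a : V' ⟶ Y) (b : (yon S).obj T ⟶ X.obj) (c : (yon S).obj T ⟶ V'.obj),
      IsPullback b c f.hom a.hom → ∃ T' : Over S, Nonempty ((yon S).obj T' ≅ V'.obj)) :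
    (EtOver.bc hr).EssSurj where
  mem_essImage E := by
    let V : Space S := ⟨(yon S).obj E.obj.left, IsAlgSpace.yon_obj _⟩
    obtain ⟨V', a, c, ha, sq⟩ := exists_descend hf V (ObjectProperty.homMk E.obj.hom)
      (_root_.AlgSp.isEtaleMor_of_repWith _ E.property)
    obtain ⟨T', ⟨e⟩⟩ := hsch _ V' a E.obj.hom c.hom sq
    have hE' : RepWith @Etale (e.hom ≫ a.hom) := ha e.hom (AlgSpB.repWith_of_isIso (P := @Etale) e.hom)
    let E' : EtOver Y.obj := EtOver.mk (e.hom ≫ a.hom) hE'
    have sq' : IsPullback E.obj.hom (c.hom ≫ e.inv) f.hom (e.hom ≫ a.hom) :=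
      IsPullback.of_iso sq (Iso.refl _) (Iso.refl _) e.symm (Iso.refl _) (by exact (Category.id_comp _).trans (Category.comp_id _).symm |>.symm)
        (by exact (Category.id_comp _).symm) (by simp) (by simp)
    let ι := (EtOver.isPullback_bcObj hr E').isoIsPullback _ _ sq'
    let κ : (EtOver.bcObj hr E').obj.left ≅ E.obj.left := (yon S).preimageIso ι
    refine ⟨E', ⟨ObjectProperty.isoMk _ (CostructuredArrow.isoMk κ ?_)⟩⟩
    show (yon S).map κ.hom ≫ E.obj.hom = (EtOver.bcObj hr E').obj.hom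
    rw [Functor.preimageIso_hom, Functor.map_preimage]
    exact (EtOver.isPullback_bcObj hr E').isoIsPullback_hom_fst _ _ sq'

theorem bc_isEquivalence (hf : IntUH f.hom) (hr : Representable f.hom)
    (hsch : ∀ (T : Over S) (V' : Space S) (a : V' ⟶ Y) (b : (yon S).obj T ⟶ X.obj) (c : (yon S).obj T ⟶ V'.obj),
      IsPullback b c f.hom a.hom → ∃ T' : Over S, Nonempty ((yon S).obj T' ≅ V'.obj)) :
    (EtOver.bc hr).IsEquivalence :=
  have := bc_faithful hf hr
  have := bc_full hf hr
  have := bc_essSurj hf hr hsch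
  { }

end Groth.Agent.AlgSpCov.HomeoEt
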