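import Groth.Agent.AlgSpCov.HomeoEt.Basic

/-!
# Morphisms of etale spaces are invariant under integral universally injective surjective base change
-/

set_option autoImplicit false
set_option backward.isDefEq.respectTransparency.types false

universe u

open CategoryTheory CategoryTheory.Limits AlgebraicGeometry TopologicalSpace

namespace Groth.Agent.AlgSpCov.HomeoEt

open _root_.AlgSp
open Groth.Agent.AlgSp (isAlgSpace_pullback)

variable {S : Scheme.{u}} {X Y V₁' V₂' V₁ V₂ : Space S}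

theorem hom_unique {f : X ⟶ Y} (hf : IntUH f.hom) {a₂ : V₂' ⟶ Y} {a₁ : V₁' ⟶ Y} {b₁ : V₁ ⟶ X}
    {c₁ : V₁ ⟶ V₁'} (ha₂ : IsEtaleMor a₂.hom) (sq₁ : IsPullback b₁.hom c₁.hom f.hom a₁.hom)
    {φ φ' : V₁' ⟶ V₂'} (h : φ ≫ a₂ = φ' ≫ a₂) (hc : c₁ ≫ φ = c₁ ≫ φ') : φ = φ' := by
  have hδ := repWith_openImmersion_diagonal a₂ ha₂
  have hc' : c₁.hom ≫ φ.hom = c₁.hom ≫ φ'.hom := congrArg (fun m => m.hom) hc
  let κ : V₁'.obj ⟶ pullback a₂.hom a₂.hom := pullback.lift φ.hom φ'.hom (congrArg (fun m => m.hom) h)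
  obtain ⟨l, hl⟩ := (AlgSpB.exists_factor_isOpenImmersion_iff hδ κ).2 (by
    rintro _ ⟨v, rfl⟩
    obtain ⟨x, rfl⟩ := hf.surjective sq₁ v
    refine ⟨Points.map (c₁.hom ≫ φ.hom) x, ?_⟩
    rw [← Points.map_comp, ← Points.map_comp]
    congr 1
    apply pullback.hom_ext
    · rw [Category.assoc, Category.assoc, pullback.diagonal_fst, Category.comp_id]
      exact congrArg (c₁.hom ≫ ·) (pullback.lift_fst _ _ _).symm
    · rw [Category.assoc, Category.assoc, pullback.diagonal_snd, Category.comp_id, hc']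
      exact congrArg (c₁.hom ≫ ·) (pullback.lift_snd _ _ _).symm)
  have h1 := congrArg (· ≫ pullback.fst a₂.hom a₂.hom) hl
  have h2 := congrArg (· ≫ pullback.snd a₂.hom a₂.hom) hl
  simp only [κ, Category.assoc, pullback.diagonal_fst, pullback.diagonal_snd, pullback.lift_fst,
    pullback.lift_snd, Category.comp_id] at h1 h2
  exact ObjectProperty.hom_ext _ (h1.symm.trans h2)

theorem hom_exists {f : X ⟶ Y} (hf : IntUH f.hom) {a₁ : V₁' ⟶ Y} {a₂ : V₂' ⟶ Y} {b₁ : V₁ ⟶ X}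
    {b₂ : V₂ ⟶ X} {c₁ : V₁ ⟶ V₁'} {c₂ : V₂ ⟶ V₂'} (ha₁ : IsEtaleMor a₁.hom) (ha₂ : IsEtaleMor a₂.hom)
    (sq₁ : IsPullback b₁.hom c₁.hom f.hom a₁.hom) (sq₂ : IsPullback b₂.hom c₂.hom f.hom a₂.hom)
    (φ : V₁ ⟶ V₂) (hφ : φ ≫ b₂ = b₁) :
    ∃ φ' : V₁' ⟶ V₂', φ' ≫ a₂ = a₁ ∧ c₁ ≫ φ' = φ ≫ c₂ := by
  have hφ' : φ.hom ≫ b₂.hom = b₁.hom := congrArg (fun m => m.hom) hφ
  have sqP := IsPullback.of_hasPullback a₁.hom a₂.hom
  have hW' := isAlgSpace_pullback Y.property V₁'.property V₂'.property a₁.hom a₂.hom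
  have sqW := IsPullback.of_hasPullback f.hom (pullback.fst a₁.hom a₂.hom ≫ a₁.hom)
  have hW := isAlgSpace_pullback Y.property X.property hW' f.hom (pullback.fst a₁.hom a₂.hom ≫ a₁.hom)
  let q := pullback.snd f.hom (pullback.fst a₁.hom a₂.hom ≫ a₁.hom)
  let π₁ := sq₁.lift (pullback.fst f.hom (pullback.fst a₁.hom a₂.hom ≫ a₁.hom))
    (q ≫ pullback.fst a₁.hom a₂.hom) (by rw [sqW.w, Category.assoc])
  have hπc : π₁ ≫ c₁.hom = q ≫ pullback.fst a₁.hom a₂.hom := sq₁.lift_snd _ _ _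
  have hπb : π₁ ≫ b₁.hom = pullback.fst f.hom (pullback.fst a₁.hom a₂.hom ≫ a₁.hom) := sq₁.lift_fst _ _ _
  let p : V₁.obj ⟶ pullback a₁.hom a₂.hom := sqP.lift c₁.hom (φ.hom ≫ c₂.hom)
    (by rw [Category.assoc, ← sq₂.w, reassoc_of% hφ', sq₁.w])
  have hp1 : p ≫ pullback.fst a₁.hom a₂.hom = c₁.hom := sqP.lift_fst _ _ _
  let σ : V₁.obj ⟶ pullback f.hom (pullback.fst a₁.hom a₂.hom ≫ a₁.hom) :=
    sqW.lift b₁.hom p (by rw [reassoc_of% hp1, sq₁.w])
  have hσq : σ ≫ q = p := sqW.lift_snd _ _ _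
  have hσπ : σ ≫ π₁ = 𝟙 _ := sq₁.hom_ext
    (by rw [Category.assoc, hπb, sqW.lift_fst, Category.id_comp])
    (by rw [Category.assoc, hπc, reassoc_of% hσq, hp1, Category.id_comp])
  -- `σ` is an open immersion
  have hsqπ : IsPullback π₁ q c₁.hom (pullback.fst a₁.hom a₂.hom) :=
    IsPullback.of_right (by rw [hπb]; exact sqW) hπc sq₁
  have he₁ : IsEtaleMor (pullback.fst a₁.hom a₂.hom) :=
    openClass_etale.baseChange V₁'.property Y.property hW' V₂'.property a₁.hom a₂.hom _ _ sqP ha₂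
  have heπ : IsEtaleMor π₁ :=
    openClass_etale.baseChange V₁.property V₁'.property hW hW' c₁.hom _ q π₁ hsqπ he₁
  have : IsSplitMono σ := IsSplitMono.mk' ⟨π₁, hσπ⟩
  have hσo : RepWith @IsOpenImmersion σ := repWith_isOpenImmersion_of_mono_isEtaleMor V₁.property hW σ
    (isEtaleMor_cancel V₁.property hW V₁.property σ π₁ (by rw [hσπ]; exact etale_id' V₁.property) heπ)
  -- the open subspace of the graph
  have hh := hf.isHomeomorph hW' sqW
  obtain ⟨E, j, hj, hjr⟩ := AlgSpB.exists_openSubspace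
    (⟨pullback a₁.hom a₂.hom, hW'⟩ : Space S) (hh.isOpenMap _ (AlgSpB.isOpen_range_of_isOpenImmersion hσo))
  have hjr' : Set.range (Points.map j.hom) = Points.map q '' Set.range (Points.map σ) := hjr
  have : Mono j.hom := AlgSpB.mono_of_isOpenImmersion hj
  let π' : E.obj ⟶ V₁'.obj := j.hom ≫ pullback.fst a₁.hom a₂.hom
  have heπ' : IsEtaleMor π' := openClass_etale.comp E.property hW' V₁'.property _ _
    (openClass_etale.of_openImm E.property hW' _ hj) he₁
  obtain ⟨l, hl⟩ := (AlgSpB.exists_factor_isOpenImmersion_iff hj p).2 (by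
    rintro _ ⟨x, rfl⟩
    rw [hjr', ← hσq, Points.map_comp]
    exact Set.mem_image_of_mem _ (Set.mem_range_self x))
  have hlπ : l ≫ π' = c₁.hom := by rw [← Category.assoc, hl, hp1]
  have hs : IsSurjectiveMor π' := fun v => by
    obtain ⟨x, rfl⟩ := hf.surjective sq₁ v
    exact ⟨Points.map l x, by rw [← Points.map_comp, hlπ]⟩
  -- `π'` is a monomorphism
  have hπ'sq := IsPullback.of_hasPullback π' π'
  have key : ∀ {D : Sp S} (r : D ⟶ E.obj) (s : D ⟶ V₁.obj), r ≫ π' = s ≫ c₁.hom → r = s ≫ l := by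
    intro D r s hrs
    obtain ⟨w, hw₁, hw₂⟩ := sqW.exists_lift (s ≫ b₁.hom) (r ≫ j.hom) (by
      rw [Category.assoc, sq₁.w, ← reassoc_of% hrs]; simp [π'])
    obtain ⟨u, hu⟩ := (AlgSpB.exists_factor_isOpenImmersion_iff hσo w).2 (by
      rintro _ ⟨d, rfl⟩
      obtain ⟨y, hy, he⟩ := hjr'.le ⟨Points.map r d, rfl⟩
      obtain rfl : y = Points.map w d := hf.injective hW' sqW (by
        rw [← Points.map_comp, hw₂, Points.map_comp]
        exact he)
      exact hy)
    have hus : u = s := by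
      have h1 : u = w ≫ π₁ := by rw [← hu, Category.assoc, hσπ, Category.comp_id]
      refine h1.trans (sq₁.hom_ext ?_ ?_)
      · rw [Category.assoc, hπb, hw₁]
      · rw [Category.assoc, hπc, reassoc_of% hw₂, ← hrs]
    subst hus
    rw [← cancel_mono j.hom, Category.assoc, hl, ← hσq, ← Category.assoc, hu, hw₂]
  have : Mono π' := by
    let δ := pullback.diagonal π'
    have hδ : RepWith @IsOpenImmersion δ :=
      repWith_openImmersion_diagonal (ObjectProperty.homMk π' : E ⟶ V₁') heπ'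
    refine ⟨fun {Z} g g' hgg => ?_⟩
    obtain ⟨m, hm⟩ := (AlgSpB.exists_factor_isOpenImmersion_iff hδ (pullback.lift g g' hgg)).2 (by
      rintro _ ⟨z, rfl⟩
      have hv := IsPullback.of_hasPullback c₁.hom (g ≫ π')
      obtain ⟨x, hx⟩ := hf.surjective (hv.paste_horiz sq₁) z
      refine ⟨Points.map (pullback.snd c₁.hom (g ≫ π') ≫ g) x, ?_⟩
      rw [← hx, ← Points.map_comp, ← Points.map_comp]
      congr 1
      have e1 := key (pullback.snd c₁.hom (g ≫ π') ≫ g) (pullback.fst _ _)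
        (by rw [Category.assoc, hv.w])
      have e2 := key (pullback.snd c₁.hom (g ≫ π') ≫ g') (pullback.fst _ _)
        (by rw [Category.assoc, ← hgg, hv.w])
      apply pullback.hom_ext
      · rw [Category.assoc, Category.assoc, Category.assoc, pullback.diagonal_fst, Category.comp_id]
        exact congrArg (pullback.snd c₁.hom (g ≫ π') ≫ ·) (pullback.lift_fst _ _ _).symm
      · rw [Category.assoc, Category.assoc, Category.assoc, pullback.diagonal_snd, Category.comp_id]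
        exact (e1.trans e2.symm).trans
          (congrArg (pullback.snd c₁.hom (g ≫ π') ≫ ·) (pullback.lift_snd _ _ _).symm))
    have h1 := congrArg (· ≫ pullback.fst π' π') hm
    have h2 := congrArg (· ≫ pullback.snd π' π') hm
    simp only [δ, Category.assoc, pullback.diagonal_fst, pullback.diagonal_snd, pullback.lift_fst,
      pullback.lift_snd, Category.comp_id] at h1 h2
    exact h1.symm.trans h2
  have := isIso_of_mono_isEtaleMor E.property π' heπ' hs
  refine ⟨ObjectProperty.homMk (inv π' ≫ j.hom ≫ pullback.snd a₁.hom a₂.hom), ?_, ?_⟩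
  · apply ObjectProperty.hom_ext
    change (inv π' ≫ j.hom ≫ pullback.snd a₁.hom a₂.hom) ≫ a₂.hom = a₁.hom
    rw [Category.assoc, Category.assoc, ← sqP.w, IsIso.inv_comp_eq, Category.assoc]
  · apply ObjectProperty.hom_ext
    change c₁.hom ≫ inv π' ≫ j.hom ≫ pullback.snd a₁.hom a₂.hom = φ.hom ≫ c₂.hom
    have hci : c₁.hom ≫ inv π' = l := by rw [IsIso.comp_inv_eq, hlπ]
    rw [reassoc_of% hci, reassoc_of% hl]
    exact sqP.lift_snd _ _ _
where
  etale_id' {V : Sp S} (hV : IsAlgSpace V) : IsEtaleMor (𝟙 V) :=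
    openClass_etale.of_openImm hV hV _ ((RepWith @IsOpenImmersion).id_mem _)

end Groth.Agent.AlgSpCov.HomeoEt
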