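import Groth.Agent.AlgSpCov.HomeoEt.Basic
import Groth.Agent.AlgSpCov.FpqcBase
import Groth.Agent.EtaleSite.PushIntegral
import Groth.Agent.AlgSp.InfGlue
import Mathlib.AlgebraicGeometry.Morphisms.QuasiFinite
import Mathlib.Topology.DiscreteSubset

/-!
# Etale atlases lift along integral universally injective surjective morphisms
-/

set_option autoImplicit false
set_option backward.isDefEq.respectTransparency.types false

universe u

open CategoryTheory CategoryTheory.Limits AlgebraicGeometry TopologicalSpace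

namespace Groth.Agent.AlgSpCov.HomeoEt

open _root_.AlgSp

variable {S : Scheme.{u}}

/-- The scheme-level lifting near one point. -/
theorem exists_nbhd_over {X Y : Scheme.{u}} (f : X ⟶ Y) [IsIntegralHom f] (hf : Function.Injective f)
    {U : Scheme.{u}} (g : U ⟶ X) [Etale g] (u : U) :
    ∃ (V : Y.Etale) (k : pullback V.hom f ⟶ U), k ≫ g = pullback.snd V.hom f ∧ u ∈ Set.range k := by
  have : LocallyQuasiFinite g := etale_le_locallyQuasiFinite _ _ g ‹_›
  obtain ⟨O, hO, hOu⟩ := isDiscrete_iff_forall_mem_exists_isOpen.1 (g.isDiscrete_preimage_singleton (g u)) u rfl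
  let O' : U.Opens := ⟨O, hO⟩
  have huO : u ∈ O := (hOu.ge rfl).1
  obtain ⟨V, ⟨v, hv⟩, k, hk⟩ := EtaleSite.exists_nbhd_factor f (O'.ι ≫ g) (f (g u)) fun x hx =>
    ⟨⟨u, huO⟩, (hf hx).symm⟩
  refine ⟨V, k ≫ O'.ι, by rw [Category.assoc, hk], ?_⟩
  obtain ⟨w, -, hw⟩ := Scheme.Pullback.exists_preimage_pullback v (g u) hv
  refine ⟨w, ?_⟩
  have h1 : g (O'.ι (k w)) = g u := by rw [← Scheme.Hom.comp_apply, ← Scheme.Hom.comp_apply, hk, hw]
  exact hOu.le ⟨(k w : ↥O').2, h1⟩

/-- An etale space over `X` has an etale atlas which is the base change of a scheme etale over `Y`. -/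
theorem exists_lifted_atlas {X Y V : Space S} {f : X ⟶ Y} (hf : IntUH f.hom) (b : V ⟶ X)
    (hb : IsEtaleMor b.hom) :
    ∃ (Y₀ X₀ : Over S) (y₀ : (yon S).obj Y₀ ⟶ Y.obj) (xf : (yon S).obj X₀ ⟶ X.obj) (xq : X₀ ⟶ Y₀)
      (e : (yon S).obj X₀ ⟶ V.obj), RepWith @Etale y₀ ∧ IsPullback xf ((yon S).map xq) f.hom y₀ ∧
        e ≫ b.hom = xf ∧ RepWith @Etale e ∧ RepWith @Surjective e := by
  obtain ⟨U, a, ha, has⟩ := V.property.atlas
  obtain ⟨Y₁, y, hy, hys⟩ := Y.property.atlas
  obtain ⟨X₁, q₁, x₁, hX₁⟩ := hf.integral.1 y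
  have : IsIntegralHom q₁.left := hf.integral.2 _ _ _ hX₁
  have hinj : Function.Injective q₁.left := fun p p' h => by
    apply (Points.schemeHomeo X₁).injective
    refine hf.injective (IsAlgSpace.yon_obj Y₁) hX₁ ?_
    exact (Points.map_yon_map_apply q₁ p).trans
      ((congrArg (Points.ofScheme Y₁) h).trans (Points.map_yon_map_apply q₁ p').symm)
  have hx₁ : RepWith @Etale x₁ := repWith_bc hX₁.flip hy
  have hx₁s : RepWith @Surjective x₁ := repWith_bc hX₁.flip hys
  have hab : RepWith @Etale (a ≫ b.hom) := hb a ha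
  obtain ⟨U₁, ρU, gU, hU₁⟩ := AlgSpB.exists_pullback_yon hab.1 x₁
  have hg : Etale gU.left := hab.2 _ _ gU hU₁
  have hρ : Etale ρU.left := hx₁.2 _ _ ρU hU₁.flip
  have hρs : Surjective ρU.left := hx₁s.2 _ _ ρU hU₁.flip
  choose Vn k hk hu using fun u : U₁.left => exists_nbhd_over q₁.left hinj gU.left u
  let Zc : U₁.left → Scheme.{u} := fun u => (Vn u).left
  let d : (∐ Zc) ⟶ Y₁.left := Sigma.desc fun u => (Vn u).hom
  have hd : ∀ u, Sigma.ι Zc u ≫ d = (Vn u).hom := fun u => Sigma.ι_desc _ _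
  have hde : Etale d := IsZariskiLocalAtSource.sigmaDesc fun u => (Vn u).prop
  let Y₀ : Over S := Over.mk (d ≫ Y₁.hom)
  let π : Y₀ ⟶ Y₁ := Over.homMk d rfl
  let Zu : U₁.left → Over S := fun u => Over.mk ((Vn u).hom ≫ Y₁.hom)
  let ι₀ : ∀ u, Zu u ⟶ Y₀ := fun u => Over.homMk (Sigma.ι Zc u) (by
    change Sigma.ι Zc u ≫ d ≫ Y₁.hom = _
    rw [reassoc_of% (hd u)]; rfl)
  have hι₀ : ∀ u, (ι₀ u ≫ π).left = (Vn u).hom := hd
  have hsq := IsPullback.of_hasPullback q₁ π
  let X₀ : Over S := pullback q₁ π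
  let P : U₁.left → Over S := fun u => pullback (pullback.snd q₁ π) (ι₀ u)
  have hPsq : ∀ u, IsPullback (pullback.fst (pullback.snd q₁ π) (ι₀ u) ≫ pullback.fst q₁ π)
      (pullback.snd (pullback.snd q₁ π) (ι₀ u)) q₁ (ι₀ u ≫ π) := fun u =>
    (IsPullback.of_hasPullback (pullback.snd q₁ π) (ι₀ u)).paste_horiz hsq
  let m : ∀ u, (P u).left ⟶ pullback (Vn u).hom q₁.left := fun u =>
    pullback.lift (pullback.snd (pullback.snd q₁ π) (ι₀ u)).left
      (pullback.fst (pullback.snd q₁ π) (ι₀ u) ≫ pullback.fst q₁ π).left (by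
        rw [← hι₀ u, ← Over.comp_left, ← Over.comp_left, (hPsq u).w])
  have hm₂ : ∀ u, m u ≫ pullback.snd _ _ =
      (pullback.fst (pullback.snd q₁ π) (ι₀ u) ≫ pullback.fst q₁ π).left := fun u => pullback.lift_snd _ _ _
  let kP : ∀ u, P u ⟶ U₁ := fun u => Over.homMk (m u ≫ k u) (by
    rw [Category.assoc, ← Over.w gU, reassoc_of% (hk u), reassoc_of% (hm₂ u), Over.w])
  have hkg : ∀ u, kP u ≫ gU = pullback.fst (pullback.snd q₁ π) (ι₀ u) ≫ pullback.fst q₁ π := fun u => by
    ext
    change (m u ≫ k u) ≫ gU.left = _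
    rw [Category.assoc, hk, hm₂]
  let iP : ∀ u, P u ⟶ X₀ := fun u => pullback.fst (pullback.snd q₁ π) (ι₀ u)
  have hiP : ∀ u, IsOpenImmersion (iP u).left := fun u =>
    MorphismProperty.of_isPullback (isPullback_over_left (IsPullback.of_hasPullback (pullback.snd q₁ π) (ι₀ u))).flip
      ((sigmaOpenCover Zc).map_prop u)
  have hcov : ∀ x : X₀.left, ∃ u, x ∈ Set.range (iP u).left := fun x => by
    obtain ⟨u, z, hz⟩ : ∃ u z, Sigma.ι Zc u z = (pullback.snd q₁ π).left x :=
      ⟨_, (sigmaOpenCover Zc).covers _⟩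
    obtain ⟨r, hr, -⟩ := Scheme.exists_preimage_of_isPullback
      (isPullback_over_left (IsPullback.of_hasPullback (pullback.snd q₁ π) (ι₀ u))) x z hz.symm
    exact ⟨u, r, hr⟩
  obtain ⟨l, hl⟩ := Groth.Agent.AlgSp.InfGlue.exists_glue (T := X₀) (U := P) iP
    (fun u => have := hiP u; inferInstance) hcov (fun u => (yon S).map (kP u)) fun u u' Z α β h => by
      by_cases huu : u = u'
      · subst huu
        have : Mono (iP u) := (Over.forget S).mono_of_mono_map (have := hiP u; inferInstanceAs (Mono (iP u).left))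
        rw [(cancel_mono (iP u)).1 h]
      · refine Groth.Agent.AlgSp.InfGlue.hom_ext_cover (ι := PEmpty.{u + 1}) (U := fun x => x.elim) (fun x => x.elim)
          (fun x => x.elim) (fun z => ?_) _ _ (fun x => x.elim)
        have h' := congrArg (fun q => (q ≫ pullback.snd q₁ π).left) h
        simp only [iP, Category.assoc, pullback.condition, Over.comp_left] at h'
        have := isEmpty_pullback_sigmaι_of_ne Zc huu
        exact this.elim ((pullback.lift (α ≫ pullback.snd _ (ι₀ u)).left (β ≫ pullback.snd _ (ι₀ u')).left h' :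
          Z.left ⟶ pullback (Sigma.ι Zc u) (Sigma.ι Zc u')) z)
  obtain ⟨kX, rfl⟩ := (yon S).map_surjective l
  have hkX : ∀ u, iP u ≫ kX = kP u := fun u => (yon S).map_injective (by rw [Functor.map_comp, hl])
  have hkXg : kX ≫ gU = pullback.fst q₁ π := (yon S).map_injective
    (Groth.Agent.AlgSp.InfGlue.hom_ext_cover (T := X₀) (U := P) iP
      (fun u => have := hiP u; inferInstance) hcov _ _ fun u => by
        rw [← Functor.map_comp, ← Functor.map_comp, reassoc_of% (hkX u), hkg])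
  have hy₀ : RepWith @Etale ((yon S).map π ≫ y) := repWith_comp ((repWith_yon_map_iff _ π).2 hde) hy
  have big : IsPullback ((yon S).map (pullback.fst q₁ π) ≫ x₁) ((yon S).map (pullback.snd q₁ π)) f.hom
      ((yon S).map π ≫ y) := (hsq.map (yon S)).paste_horiz hX₁
  let e := (yon S).map (kX ≫ ρU) ≫ a
  have heb : e ≫ b.hom = (yon S).map (pullback.fst q₁ π) ≫ x₁ := by
    simp only [e, Functor.map_comp, Category.assoc]
    rw [hU₁.w, ← Functor.map_comp_assoc, hkXg]
  have hrep : RepWith @Etale ((yon S).map (pullback.fst q₁ π) ≫ x₁) := repWith_bc big.flip hy₀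
  refine ⟨Y₀, X₀, _, _, pullback.snd q₁ π, e, hy₀, big, heb, ?_, ?_⟩
  · have : IsEtaleMor e := isEtaleMor_cancel (IsAlgSpace.yon_obj X₀) V.property X.property e b.hom
      ((isEtaleMor_iff_locP_etale (IsAlgSpace.yon_obj X₀) X.property).2
        (locP_of_repWith etaleLocal_etale (by rw [heb]; exact hrep))) hb
    simpa using this (𝟙 _) (AlgSp.repWith_id _ _)
  · refine repWith_comp ((repWith_yon_map_iff _ _).2 ?_) has
    have : Surjective kX.left := ⟨fun u => by
      obtain ⟨w, hw⟩ := hu u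
      have hiso : IsPullback (pullback.snd (pullback.snd q₁ π) (ι₀ u)).left
          (pullback.fst (pullback.snd q₁ π) (ι₀ u) ≫ pullback.fst q₁ π).left (Vn u).hom q₁.left := by
        rw [← hι₀ u]
        exact (isPullback_over_left (hPsq u)).flip
      refine ⟨(iP u).left (hiso.isoPullback.inv w), ?_⟩
      rw [← Scheme.Hom.comp_apply, ← Over.comp_left, hkX u]
      change (m u ≫ k u) (hiso.isoPullback.inv w) = u
      rw [← Scheme.Hom.comp_apply]
      have hmu : hiso.isoPullback.inv ≫ m u = 𝟙 _ := by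
        rw [Iso.inv_comp_eq, Category.comp_id]
        apply pullback.hom_ext
        · rw [pullback.lift_fst, hiso.isoPullback_hom_fst]
        · rw [hm₂, hiso.isoPullback_hom_snd]
      rw [reassoc_of% hmu, hw]⟩
    rw [Over.comp_left]
    infer_instance

end Groth.Agent.AlgSpCov.HomeoEt
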